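import Groth.Agent.Lib.AbRigid.FibreTranslate
import Groth.Agent.Lib.GrpField.Dim
import Groth.Agent.Lib.FibreCM5.Basic
import Groth.Agent.Lib.AlgSpRel14.FlatDim
import Mathlib.AlgebraicGeometry.AlgClosed.Basic

/-!
# Group schemes over fields are Cohen–Macaulay and equidimensional
-/

universe u

open CategoryTheory Limits MonoidalCategory CartesianMonoidalCategory AlgebraicGeometry TopologicalSpace
open scoped MonObj GrpObj

set_option linter.style.haveILetI false
set_option backward.isDefEq.respectTransparency false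

namespace Groth.Agent.GrpCM20

variable {K : Type u} [Field K]

/-- The Cohen–Macaulay locus of a scheme locally of finite type over a field is open. -/
theorem isOpen_cm {X : Scheme.{u}} (t : X ⟶ Spec (CommRingCat.of K)) [LocallyOfFiniteType t] :
    IsOpen {x : X | LocCoh.IsCohenMacaulayLocalRing (X.presheaf.stalk x)} := by
  haveI : LocallyOfFinitePresentation t := inferInstance
  haveI : Flat t := inferInstance
  refine (congrArg IsOpen (Set.ext fun x => ?_)).mp (FibreCM5.isOpen_isCMAt t)
  exact ⟨fun h => (FibreCM5.isCM_fibre_over_field_iff t x).1 h.2,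
    fun h => ⟨Flat.stalkMap t x, (FibreCM5.isCM_fibre_over_field_iff t x).2 h⟩⟩

/-- A local ring of dimension zero is Cohen–Macaulay. -/
theorem isCM_of_dim_zero (R : Type u) [CommRing R] [IsLocalRing R] [IsNoetherianRing R]
    (h : ringKrullDim R = 0) : LocCoh.IsCohenMacaulayLocalRing R := by
  refine { supportDim_eq_depth := le_antisymm ?_ DepthLib.depth_le_supportDim }
  rw [Module.supportDim_self_eq_ringKrullDim, h]
  exact WithBot.coe_le_coe.2 bot_le

theorem isCM_of_isAlgClosed [IsAlgClosed K] (G : Over (Spec (CommRingCat.of K))) [GrpObj G]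
    [LocallyOfFiniteType G.hom] (x : G.left) : LocCoh.IsCohenMacaulayLocalRing (G.left.presheaf.stalk x) := by
  haveI : JacobsonSpace G.left := LocallyOfFiniteType.jacobsonSpace G.hom
  haveI : IsLocallyNoetherian G.left := LocallyOfFiniteType.isLocallyNoetherian G.hom
  let Ω := {x : G.left | LocCoh.IsCohenMacaulayLocalRing (G.left.presheaf.stalk x)}
  have hΩ : IsOpen Ω := isOpen_cm G.hom
  obtain ⟨v, -, hv⟩ := VarDim.exists_maximal_specializes G.hom ((η[G]).left (AbRigid.pt₀ K))
  have hvΩ : v ∈ Ω := by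
    refine isCM_of_dim_zero _ ?_
    rw [ringKrullDim_stalk_eq_coheight, Order.coheight_eq_zero.2 ?_]
    · rfl
    · intro y hy
      exact ((hv y (Scheme.le_iff_specializes.1 hy)) ▸ le_rfl : y ≤ v)
  obtain ⟨z, hzΩ, hzc⟩ := nonempty_inter_closedPoints (Z := Ω) ⟨v, hvΩ⟩ hΩ.isLocallyClosed
  have hall : ∀ w, IsClosed ({w} : Set G.left) → w ∈ Ω := by
    intro w hw
    let a : 𝟙_ (Over (Spec (CommRingCat.of K))) ⟶ G :=
      Over.homMk (pointOfClosedPoint G.hom z hzc) (pointOfClosedPoint_comp G.hom z hzc)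
    let b : 𝟙_ (Over (Spec (CommRingCat.of K))) ⟶ G :=
      Over.homMk (pointOfClosedPoint G.hom w hw) (pointOfClosedPoint_comp G.hom w hw)
    haveI : IsIso (AbRigid.ltr (a * b⁻¹)).left :=
      inferInstanceAs (IsIso ((Over.forget _).mapIso (AbRigid.ltrIso (a * b⁻¹))).hom)
    have hτ : (AbRigid.ltr (a * b⁻¹)).left w = z := by
      have e : b ≫ AbRigid.ltr (a * b⁻¹) = a := by rw [AbRigid.comp_ltr]; simp
      have e' := congrArg (fun f => f.left.base (AbRigid.pt₀ K)) e
      simp only [Over.comp_left, Scheme.Hom.comp_apply] at e'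
      have hb : b.left.base (AbRigid.pt₀ K) = w := pointOfClosedPoint_apply G.hom w hw _
      have ha : a.left.base (AbRigid.pt₀ K) = z := pointOfClosedPoint_apply G.hom z hzc _
      rw [hb, ha] at e'
      exact e'
    refine (FibreCM5.isCM_stalk_openImmersion_iff (AbRigid.ltr (a * b⁻¹)).left w).2 ?_
    rw [hτ]
    exact hzΩ
  by_contra hx
  obtain ⟨w, hw, hwc⟩ := nonempty_inter_closedPoints (Z := Ωᶜ) ⟨x, hx⟩ hΩ.isClosed_compl.isLocallyClosed
  exact hw (hall w hwc)

/-- A group scheme locally of finite type over a field is Cohen–Macaulay. -/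
theorem isCM (G : Over (Spec (CommRingCat.of K))) [GrpObj G]
    [LocallyOfFiniteType G.hom] (x : G.left) : LocCoh.IsCohenMacaulayLocalRing (G.left.presheaf.stalk x) := by
  let φ := Spec.map (CommRingCat.ofHom (algebraMap K (AlgebraicClosure K)))
  let F := Over.pullback φ
  letI : GrpObj (F.obj G) := Functor.grpObjObj
  haveI : LocallyOfFiniteType (F.obj G).hom := inferInstanceAs (LocallyOfFiniteType (pullback.snd G.hom φ))
  obtain ⟨w, rfl⟩ := (pullback.fst G.hom φ).surjective x
  exact (FibreCM5.isCM_stalk_field_bc_iff (algebraMap K (AlgebraicClosure K))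
    (IsPullback.of_hasPullback G.hom φ) w).1 (isCM_of_isAlgClosed (F.obj G) w)

/-- Every nonempty open of a group scheme locally of finite type over a field has full dimension. -/
theorem dim_opens (G : Over (Spec (CommRingCat.of K))) [GrpObj G] [LocallyOfFiniteType G.hom]
    (U : G.left.Opens) (hU : (U : Set G.left).Nonempty) :
    topologicalKrullDim (U : Set G.left) = topologicalKrullDim G.left := by
  haveI : JacobsonSpace G.left := LocallyOfFiniteType.jacobsonSpace G.hom
  refine le_antisymm U.isOpen.isOpenEmbedding_subtypeVal.isInducing.topologicalKrullDim_le ?_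
  obtain ⟨z, hzU, hzc⟩ := nonempty_inter_closedPoints hU U.isOpen.isLocallyClosed
  rw [← GrpField.ringKrullDim_stalk_eq G z hzc]
  have e := (asIso (U.ι.stalkMap ⟨z, hzU⟩)).commRingCatIsoToRingEquiv
  exact (ringKrullDim_eq_of_ringEquiv e).le.trans (AlgSpRel14.stalkDim_le_dim (U : Scheme) ⟨z, hzU⟩)

/-- The local dimension of a group scheme is constant. -/
theorem localDim_eq (G : Over (Spec (CommRingCat.of K))) [GrpObj G] [LocallyOfFiniteType G.hom] (g : G.left) :
    FlatMor.localDim G.left g = topologicalKrullDim G.left := by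
  obtain ⟨U, hgU, h⟩ := AlgSpRel14.exists_localDim_eq g
  rw [h, dim_opens G U ⟨g, hgU⟩]

/-- All components of a group scheme have the same dimension. -/
theorem dim_component (G : Over (Spec (CommRingCat.of K))) [GrpObj G] [LocallyOfFiniteType G.hom]
    (Z : Set G.left) (hZ : Z ∈ irreducibleComponents G.left) :
    topologicalKrullDim Z = topologicalKrullDim G.left := by
  haveI : IsLocallyNoetherian G.left := LocallyOfFiniteType.isLocallyNoetherian G.hom
  refine le_antisymm (Topology.IsInducing.subtypeVal.topologicalKrullDim_le) ?_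
  obtain ⟨η₁, hη, hmax⟩ := VarDim.exists_generic_of_mem_irreducibleComponents hZ
  obtain ⟨U, hU, hηU, -⟩ := exists_isAffineOpen_mem_and_subset (X := G.left) (x := η₁) (U := ⊤) trivial
  haveI : IsNoetherianRing Γ(G.left, U) := IsLocallyNoetherian.component_noetherian ⟨U, hU⟩
  haveI : NoetherianSpace U := noetherianSpace_of_isAffineOpen U hU
  have hη' : closure ({η₁} : Set G.left) = Z := hη
  haveI : QuasiSober U := U.isOpen.isOpenEmbedding_subtypeVal.quasiSober
  let S : Set U := ⋃ C ∈ {C ∈ irreducibleComponents U | (⟨η₁, hηU⟩ : U) ∉ C}, C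
  have hSc : IsClosed S := (NoetherianSpace.finite_irreducibleComponents.subset fun C hC => hC.1).isClosed_biUnion
    fun C hC => isClosed_of_mem_irreducibleComponents C hC.1
  let O : G.left.Opens := ⟨Subtype.val '' Sᶜ, U.isOpen.isOpenEmbedding_subtypeVal.isOpenMap _ hSc.isOpen_compl⟩
  have hηO : η₁ ∈ O := by
    refine ⟨⟨η₁, hηU⟩, ?_, rfl⟩
    intro h
    obtain ⟨C, hC, hmem⟩ := Set.mem_iUnion₂.1 h
    exact hC.2 hmem
  have hOZ : (O : Set G.left) ⊆ Z := by
    rintro _ ⟨y, hy, rfl⟩
    obtain ⟨C, hC, hyC⟩ := exists_mem_irreducibleComponents_subset_of_isIrreducible _ (isIrreducible_singleton (x := y))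
    have hηC : (⟨η₁, hηU⟩ : U) ∈ C := by
      by_contra h
      exact hy (Set.mem_iUnion₂.2 ⟨C, ⟨hC, h⟩, hyC rfl⟩)
    obtain ⟨ξ, hξ⟩ := @QuasiSober.sober _ _ ‹QuasiSober U› _ hC.1 (isClosed_of_mem_irreducibleComponents C hC)
    have h1 : ξ.1 ⤳ η₁ := (hξ.specializes hηC).map continuous_subtype_val
    have h2 : ξ.1 ⤳ y.1 := (hξ.specializes (hyC rfl)).map continuous_subtype_val
    rw [← hη', ← specializes_iff_mem_closure]
    rwa [← hmax _ h1]
  rw [← dim_opens G O ⟨η₁, hηO⟩]
  exact (Topology.IsEmbedding.inclusion hOZ).isInducing.topologicalKrullDim_le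

/-- The fibre dimension of a flat group scheme locally of finite presentation is locally constant. -/
theorem isLocallyConstant_dim (S : Scheme.{u}) (G : Over S) [GrpObj G] [Flat G.hom]
    [LocallyOfFinitePresentation G.hom] :
    IsLocallyConstant (fun s : S => topologicalKrullDim ↥(G.hom.base ⁻¹' {s})) := by
  have he : (η[G]).left ≫ G.hom = 𝟙 S := Over.w η[G]
  let e : S → G.left := fun s => (η[G]).left.base s
  have hes : ∀ s, G.hom.base (e s) = s := fun s => by
    show G.hom.base ((η[G]).left.base s) = s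
    rw [← Scheme.Hom.comp_apply, he]; rfl
  have key : ∀ x : G.left, LocCoh.IsCohenMacaulayLocalRing ((G.hom.fiber (G.hom x)).presheaf.stalk (G.hom.asFiber x)) ∧
      FlatMor.fibreDimAt G.hom x = topologicalKrullDim ↥(G.hom.base ⁻¹' {G.hom.base x}) := by
    intro x
    let F := Over.pullback (S.fromSpecResidueField (G.hom x))
    letI : GrpObj (F.obj G) := Functor.grpObjObj
    haveI : LocallyOfFiniteType (F.obj G).hom :=
      inferInstanceAs (LocallyOfFiniteType (pullback.snd G.hom (S.fromSpecResidueField (G.hom x))))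
    refine ⟨isCM (F.obj G) (G.hom.asFiber x), ?_⟩
    refine (localDim_eq (F.obj G) (G.hom.asFiber x)).trans ?_
    exact (G.hom.fiberHomeo (G.hom x)).isHomeomorph.topologicalKrullDim_eq
  have keyE : ∀ s, FlatMor.fibreDimAt G.hom (e s) = topologicalKrullDim ↥(G.hom.base ⁻¹' {s}) := fun s => by
    rw [(key (e s)).2, hes]
  rw [IsLocallyConstant.iff_exists_open]
  intro s
  obtain ⟨W, hW, hWd⟩ := CMEquiDim4.exists_nhd_fibreDimAt_eq G.hom (x := e s)
    ⟨Flat.stalkMap G.hom (e s), (key (e s)).1⟩
  refine ⟨e ⁻¹' (W : Set G.left), W.isOpen.preimage (η[G]).left.continuous, hW, fun s' hs' => ?_⟩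
  rw [← keyE s', ← keyE s]
  exact hWd _ hs'

end Groth.Agent.GrpCM20
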